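import Mathlib

/-!
Values of `x (1 - x)` in a class of cubes (helper99).
-/

set_option autoImplicit false

namespace Cfsg.Agent.SL3Geo99

variable {F : Type*} [Field F] [Fintype F]

/-- `x (1 - x)` is `γ` times a non-zero cube. -/
def Sol (γ x : F) : Prop := ∃ b : F, b ≠ 0 ∧ x * (1 - x) = γ * b ^ 3

theorem cubes_of_not_dvd (h : ¬ 3 ∣ Fintype.card F - 1) (y : Fˣ) : ∃ b : Fˣ, b ^ 3 = y := by
  classical
  have hc : (Nat.card Fˣ).Coprime 3 := by
    rw [Nat.card_eq_fintype_card, Fintype.card_units]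
    exact ((Nat.Prime.coprime_iff_not_dvd Nat.prime_three).mpr h).symm
  exact ⟨(powCoprime hc).symm y, (powCoprime hc).apply_symm_apply y⟩

open Classical in
/-- The Jacobi sum bound for the number of solutions. -/
theorem sol_bound (h3 : 3 ∣ Fintype.card F - 1) {γ : F} (hγ : γ ≠ 0) :
    ((3 * ((Finset.univ.filter (Sol γ)).card : ℤ)) - ((Fintype.card F : ℤ) - 2)) ^ 2 ≤
      4 * Fintype.card F := by
  obtain ⟨χ, hχ⟩ := MulChar.exists_mulChar_orderOf F h3 (Complex.isPrimitiveRoot_exp 3 (by norm_num))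
  have hχ1 : χ ≠ 1 := fun h => by rw [h, orderOf_one] at hχ; omega
  have hχ2 : χ * χ ≠ 1 := fun h => by
    have := Nat.le_of_dvd (by norm_num) (orderOf_dvd_of_pow_eq_one (show χ ^ 2 = 1 by rw [sq, h]))
    omega
  have hcube : ∀ y : Fˣ, χ y ^ 3 = 1 := fun y => by
    rw [← MulChar.pow_apply_coe, ← hχ, pow_orderOf_eq_one, MulChar.one_apply_coe]
  have hker : ∀ y : Fˣ, χ y = 1 → ∃ b : Fˣ, b ^ 3 = y := by
    obtain ⟨g, hg⟩ := IsCyclic.exists_generator (α := Fˣ)
    have hg1 : χ g ≠ 1 := fun h => hχ1 (MulChar.ext fun y => by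
      obtain ⟨n, rfl⟩ := Submonoid.mem_powers_iff _ _ |>.mp (mem_powers_iff_mem_zpowers.mpr (hg y))
      rw [MulChar.one_apply_coe, Units.val_pow_eq_pow_val, map_pow, h, one_pow])
    intro y hy
    obtain ⟨n, rfl⟩ := Submonoid.mem_powers_iff _ _ |>.mp (mem_powers_iff_mem_zpowers.mpr (hg y))
    rw [Units.val_pow_eq_pow_val, map_pow] at hy
    have : Fact (Nat.Prime 3) := ⟨Nat.prime_three⟩
    obtain ⟨m, rfl⟩ := orderOf_eq_prime (hcube g) hg1 ▸ orderOf_dvd_of_pow_eq_one hy
    exact ⟨g ^ m, by rw [← pow_mul, mul_comm]⟩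
  set S := Finset.univ.filter (Sol γ) with hS
  set T : ℂ := χ γ⁻¹ * jacobiSum χ χ with hT
  have hre : T.re = (3 * (S.card : ℝ) - ((Fintype.card F : ℝ) - 2)) / 2 := by
    have hterm : ∀ x : F, (χ γ⁻¹ * (χ x * χ (1 - x))).re =
        (3 / 2 : ℝ) * (if x ∈ S then 1 else 0) - (1 / 2) * 1
          + (1 / 2) * ((if x = 0 then 1 else 0) + if x = 1 then 1 else 0) := fun x => by
      by_cases h0 : x = 0
      · subst h0
        have hn : (0 : F) ∉ S := by simp [hS, Sol, hγ]
        simp [hn, MulChar.map_zero]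
      by_cases h1 : x = 1
      · subst h1
        have hn : (1 : F) ∉ S := by simp [hS, Sol, hγ]
        simp [hn, MulChar.map_zero]
      have hne : γ⁻¹ * (x * (1 - x)) ≠ 0 :=
        mul_ne_zero (inv_ne_zero hγ) (mul_ne_zero h0 (sub_ne_zero.mpr (Ne.symm h1)))
      rw [← map_mul, ← map_mul, if_neg h0, if_neg h1]
      set y := Units.mk0 _ hne with hy
      rw [show γ⁻¹ * (x * (1 - x)) = (y : F) from rfl]
      have hmem : x ∈ S ↔ χ y = 1 := by
        rw [hS, Finset.mem_filter, and_iff_right (Finset.mem_univ x)]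
        constructor
        · rintro ⟨b, hb, he⟩
          have : (y : F) = ((Units.mk0 b hb) ^ 3 : Fˣ) := by
            rw [hy, Units.val_mk0, he, Units.val_pow_eq_pow_val, Units.val_mk0]
            field_simp
          rw [this, Units.val_pow_eq_pow_val, map_pow, hcube]
        · intro h
          obtain ⟨b, hb⟩ := hker y h
          have := congrArg Units.val hb
          rw [hy, Units.val_pow_eq_pow_val, Units.val_mk0] at this
          exact ⟨b, b.ne_zero, by rw [this]; field_simp⟩
      by_cases hz : χ y = 1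
      · rw [if_pos (hmem.mpr hz), hz]; norm_num
      · rw [if_neg (fun h => hz (hmem.mp h))]
        have hq : χ y * χ y + χ y + 1 = 0 := mul_left_cancel₀ (sub_ne_zero.mpr hz)
          (show (χ y - 1) * (χ y * χ y + χ y + 1) = (χ y - 1) * 0 by linear_combination hcube y)
        have er := congrArg Complex.re hq
        have ei := congrArg Complex.im hq
        simp [Complex.mul_re, Complex.mul_im] at er ei
        rcases mul_eq_zero.mp (show (χ y).im * (2 * (χ y).re + 1) = 0 by linarith) with h | h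
        · rw [h] at er; nlinarith [sq_nonneg (2 * (χ y).re + 1)]
        · norm_num; linarith
    rw [hT, jacobiSum, Finset.mul_sum, Complex.re_sum, Finset.sum_congr rfl fun x _ => hterm x,
      Finset.sum_add_distrib, Finset.sum_sub_distrib, ← Finset.mul_sum, ← Finset.mul_sum,
      ← Finset.mul_sum, Finset.sum_add_distrib, Finset.sum_boole, Finset.sum_const,
      Finset.card_univ, nsmul_one]
    simp only [Finset.sum_ite_eq', Finset.mem_univ, if_true, Finset.filter_mem_eq_inter,
      Finset.univ_inter]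
    ring
  have hnorm : Complex.normSq T = Fintype.card F := by
    have hu : Complex.normSq (χ γ⁻¹) = 1 := by
      have h := congrArg Complex.normSq (hcube (Units.mk0 γ⁻¹ (inv_ne_zero hγ)))
      rw [map_pow, map_one, Units.val_mk0] at h
      exact (pow_eq_one_iff_of_nonneg (Complex.normSq_nonneg _) (by norm_num)).mp h
    have hJ : jacobiSum χ χ * jacobiSum χ⁻¹ χ⁻¹ = Fintype.card F :=
      jacobiSum_mul_jacobiSum_inv (by
        rw [ringChar.eq_zero]
        obtain ⟨p, hp⟩ := CharP.exists F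
        rw [ringChar.eq F p]
        exact (CharP.char_is_prime F p).ne_zero.symm) hχ1 hχ1 hχ2
    have hstar : jacobiSum χ⁻¹ χ⁻¹ = starRingEnd ℂ (jacobiSum χ χ) := by
      simp only [jacobiSum, map_sum, map_mul, starRingEnd_apply, MulChar.star_apply']
    rw [hstar, Complex.mul_conj] at hJ
    rw [hT, map_mul, hu, one_mul]
    exact_mod_cast hJ
  have hle : T.re ^ 2 ≤ Complex.normSq T := by
    rw [Complex.normSq_apply]; nlinarith [sq_nonneg T.im]
  rw [hnorm, hre] at hle
  have : ((3 * (S.card : ℝ)) - ((Fintype.card F : ℝ) - 2)) ^ 2 ≤ 4 * Fintype.card F := by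
    linarith [show ((3 * (S.card : ℝ) - ((Fintype.card F : ℝ) - 2)) / 2) ^ 2 * 4 =
      (3 * (S.card : ℝ) - ((Fintype.card F : ℝ) - 2)) ^ 2 by ring]
  exact_mod_cast this

/-- At least three solutions, except for `7`, `13` and `16` elements. -/
theorem exists_sols (h5 : 5 ≤ Fintype.card F) (h7 : Fintype.card F ≠ 7)
    (h13 : Fintype.card F ≠ 13) {γ : F} (hγ : γ ≠ 0) :
    (∃ x y z : F, x ≠ y ∧ x ≠ z ∧ y ≠ z ∧ Sol γ x ∧ Sol γ y ∧ Sol γ z) ∨
      (Fintype.card F = 16 ∧ ∃ x, Sol γ x) := by
  classical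
  set S := Finset.univ.filter (Sol γ) with hS
  by_cases h : 2 < S.card
  · obtain ⟨x, y, z, hx, hy, hz, hxy, hxz, hyz⟩ := Finset.two_lt_card_iff.mp h
    simp only [hS, Finset.mem_filter] at hx hy hz
    exact Or.inl ⟨x, y, z, hxy, hxz, hyz, hx.2, hy.2, hz.2⟩
  by_cases h3 : 3 ∣ Fintype.card F - 1
  · have hb := sol_bound h3 hγ
    rw [← hS] at hb
    obtain ⟨k, hk⟩ := h3
    have hpp := FiniteField.isPrimePow_card F
    have hub : Fintype.card F ≤ 16 := by
      by_contra hh
      have h17 : (17 : ℤ) ≤ Fintype.card F := by omega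
      have hc : (S.card : ℤ) ≤ 2 := by omega
      nlinarith [mul_nonneg (sub_nonneg.mpr h17) (sub_nonneg.mpr h17)]
    have h10 : Fintype.card F ≠ 10 := fun e => by
      rw [e, isPrimePow_nat_iff_bounded] at hpp
      revert hpp; decide
    have h16 : Fintype.card F = 16 := by omega
    refine Or.inr ⟨h16, ?_⟩
    by_contra hne
    have : S = ∅ := Finset.filter_eq_empty_iff.mpr fun x _ hx => hne ⟨x, hx⟩
    rw [this, h16] at hb
    norm_num at hb
  · exfalso
    apply h
    have hsub : (Finset.univ.erase (0 : F)).erase 1 ⊆ S := fun x hx => by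
      simp only [Finset.mem_erase, Finset.mem_univ, and_true] at hx
      have hne : γ⁻¹ * (x * (1 - x)) ≠ 0 :=
        mul_ne_zero (inv_ne_zero hγ) (mul_ne_zero hx.2 (sub_ne_zero.mpr (Ne.symm hx.1)))
      obtain ⟨b, hb⟩ := cubes_of_not_dvd h3 (Units.mk0 _ hne)
      have := congrArg Units.val hb
      rw [Units.val_pow_eq_pow_val, Units.val_mk0] at this
      simp only [hS, Finset.mem_filter, Finset.mem_univ, true_and]
      exact ⟨b, b.ne_zero, by rw [this]; field_simp⟩
    have := Finset.card_le_card hsub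
    rw [Finset.card_erase_of_mem (by simp), Finset.card_erase_of_mem (Finset.mem_univ _),
      Finset.card_univ] at this
    omega

end Cfsg.Agent.SL3Geo99
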