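import Cfsg.Agent.MaxSub.Frame.Main
import Cfsg.Agent.MaxSub.Frame.Transport
import Cfsg.Agent.S5635
import Cfsg.Agent.SL3Geo99.CubicCount

/-!
The monomial group is maximal in the special linear group of degree three, at least five field
elements (helper99).
-/

set_option autoImplicit false
set_option linter.unusedSectionVars false

namespace Cfsg.Agent.SL3Geo99

open Matrix Cfsg.Agent.MaxSub Cfsg.Agent.MaxSub.Frame

/-! ### Triples -/

section Triple

variable {F : Type*} [Field F]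

/-- Every torus element annihilating the triple has an inverse annihilating it. -/
def Rule3 (c₀ c₁ c₂ : F) : Prop :=
  ∀ A B C : F, A * B * C = 1 → c₀ * A + c₁ * B + c₂ * C = 0 →
    c₀ * (B * C) + c₁ * (A * C) + c₂ * (A * B) = 0

theorem Rule3.rot {c₀ c₁ c₂ : F} (h : Rule3 c₀ c₁ c₂) : Rule3 c₁ c₂ c₀ := fun A B C hp hl => by
  linear_combination h C A B (by linear_combination hp) (by linear_combination hl)

theorem Rule3.root {c₀ c₁ c₂ x : F} (h : Rule3 c₀ c₁ c₂) (h₀ : c₀ ≠ 0) (h₁ : c₁ ≠ 0) (h₂ : c₂ ≠ 0)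
    (hx : Sol (-(c₀ * c₁ * c₂)) x) :
    c₀ ^ 2 * (1 - x) + c₁ ^ 2 * x - c₂ ^ 2 * (x * (1 - x)) = 0 := by
  obtain ⟨b, hb, he⟩ := hx
  have h' := h (x / (b * c₀)) ((1 - x) / (b * c₁)) (-1 / (b * c₂))
    (by field_simp; linear_combination -he) (by field_simp; ring)
  field_simp at h'
  linear_combination -h'

variable [Fintype F]

theorem two_eq_zero_of_sixteen (h : Fintype.card F = 16) : (2 : F) = 0 := by
  have h' := FiniteField.cast_card_eq_zero (K := F)
  rw [h] at h'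
  exact pow_eq_zero_iff (n := 4) (by norm_num) |>.mp (by push_cast at h'; linear_combination h')

theorem rule3_large (h5 : 5 ≤ Fintype.card F) (h7 : Fintype.card F ≠ 7) (h13 : Fintype.card F ≠ 13)
    {c₀ c₁ c₂ : F} (h₀ : c₀ ≠ 0) (h₁ : c₁ ≠ 0) (h₂ : c₂ ≠ 0) (hs : c₀ + c₁ + c₂ = 1)
    (h : Rule3 c₀ c₁ c₂) : Fintype.card F = 16 ∧ c₀ = 1 ∧ c₁ = 1 ∧ c₂ = 1 := by
  have hγ : -(c₀ * c₁ * c₂) ≠ 0 := neg_ne_zero.mpr (mul_ne_zero (mul_ne_zero h₀ h₁) h₂)
  rcases exists_sols h5 h7 h13 hγ with ⟨x, y, z, hxy, hxz, hyz, hx, hy, hz⟩ | ⟨h16, -⟩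
  · exfalso
    have ex := h.root h₀ h₁ h₂ hx
    have ey := h.root h₀ h₁ h₂ hy
    have ez := h.root h₀ h₁ h₂ hz
    have e1 : c₁ ^ 2 - c₀ ^ 2 - c₂ ^ 2 + c₂ ^ 2 * (x + y) = 0 :=
      mul_left_cancel₀ (sub_ne_zero.mpr hxy) (by rw [mul_zero]; linear_combination ex - ey)
    have e2 : c₁ ^ 2 - c₀ ^ 2 - c₂ ^ 2 + c₂ ^ 2 * (x + z) = 0 :=
      mul_left_cancel₀ (sub_ne_zero.mpr hxz) (by rw [mul_zero]; linear_combination ex - ez)
    exact hyz (sub_eq_zero.mp (mul_left_cancel₀ (pow_ne_zero 2 h₂)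
      (show c₂ ^ 2 * (y - z) = c₂ ^ 2 * 0 by linear_combination e1 - e2)))
  · have h2 := two_eq_zero_of_sixteen h16
    have eq01 : ∀ {d₀ d₁ d₂ : F}, d₀ ≠ 0 → d₁ ≠ 0 → d₂ ≠ 0 → Rule3 d₀ d₁ d₂ → d₀ = d₁ := by
      intro d₀ d₁ d₂ k₀ k₁ k₂ hd
      have hγ' : -(d₀ * d₁ * d₂) ≠ 0 := neg_ne_zero.mpr (mul_ne_zero (mul_ne_zero k₀ k₁) k₂)
      obtain ⟨x, hx⟩ : ∃ x, Sol (-(d₀ * d₁ * d₂)) x := by
        rcases exists_sols h5 h7 h13 hγ' with ⟨x, -, -, -, -, -, hx, -, -⟩ | ⟨-, hx⟩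
        · exact ⟨x, hx⟩
        · exact hx
      obtain ⟨b, hb, he⟩ := hx
      have e1 := hd.root k₀ k₁ k₂ ⟨b, hb, he⟩
      have e2 := hd.root k₀ k₁ k₂ (x := 1 - x) ⟨b, hb, by linear_combination he⟩
      refine sub_eq_zero.mp (mul_self_eq_zero.mp ?_)
      linear_combination e1 - e2 + (x * d₀ ^ 2 - x * d₁ ^ 2 - d₀ * d₁ + d₁ ^ 2) * h2
    have e01 := eq01 h₀ h₁ h₂ h
    have e12 := eq01 h₁ h₂ h₀ h.rot
    have : c₁ = 1 := by linear_combination hs - e01 + e12 - c₁ * h2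
    exact ⟨h16, e01.trans this, this, e12 ▸ this⟩

/-- A violation of `Rule3` in a model. -/
abbrev Viol {R : Type*} [CommRing R] (c₀ c₁ c₂ : R) (t : R × R × R) : Prop :=
  t.1 * t.2.1 * t.2.2 = 1 ∧ c₀ * t.1 + c₁ * t.2.1 + c₂ * t.2.2 = 0 ∧
    ¬ c₀ * (t.2.1 * t.2.2) + c₁ * (t.1 * t.2.2) + c₂ * (t.1 * t.2.1) = 0

theorem not_rule3_of_viol {R : Type*} [CommRing R] (φ : R →+* F) (hφ : Function.Injective φ)
    {c₀ c₁ c₂ : R} {t : R × R × R} (ht : Viol c₀ c₁ c₂ t) : ¬ Rule3 (φ c₀) (φ c₁) (φ c₂) := fun h =>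
  ht.2.2 ((map_eq_zero_iff φ hφ).mp (by
    have h' := h (φ t.1) (φ t.2.1) (φ t.2.2) (by rw [← map_mul, ← map_mul, ht.1, map_one])
      (by rw [← map_mul, ← map_mul, ← map_mul, ← map_add, ← map_add, ht.2.1, map_zero])
    simpa only [map_add, map_mul] using h'))

/-- A violation of `Rule3` by the derived triple in a model. -/
abbrev DViol {R : Type*} [CommRing R] (e x y z : R) (t : R × R × R) : Prop :=
  Viol (1 - e * x + e * x * x) (e * x * y) (e * x * z) t

/-- The triple derived from a column by a homology of parameter `e`. -/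
abbrev Derived (R : Type*) [CommRing R] (P : R → R → R → Prop) (e x y z : R) : Prop :=
  P (1 - e * x + e * x * x) (e * x * y) (e * x * z)

set_option synthInstance.maxSize 4000 in
set_option synthInstance.maxHeartbeats 200000 in
theorem seven_table : ∀ x y : ZMod 7, x ≠ 0 → y ≠ 0 → 1 - x - y ≠ 0 →
    ∃ t ∈ ([(1, 3, 5), (1, 2, 4), (1, 5, 3), (3, 6, 2)] : List (ZMod 7 × ZMod 7 × ZMod 7)),
      Viol x y (1 - x - y) t ∨ DViol 4 x y (1 - x - y) t ∨
      DViol 4 y (1 - x - y) x t ∨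
      DViol 4 (1 - x - y) x y t := by decide

set_option synthInstance.maxSize 4000 in
set_option synthInstance.maxHeartbeats 200000 in
theorem thirteen_table : ∀ x y : ZMod 13, x ≠ 0 → y ≠ 0 → 1 - x - y ≠ 0 →
    ∃ t ∈ ([(2, 2, 10), (4, 1, 10), (1, 3, 9), (7, 1, 2), (1, 2, 7), (4, 3, 12), (1, 7, 2), (2, 1, 7)] :
        List (ZMod 13 × ZMod 13 × ZMod 13)),
      Viol x y (1 - x - y) t ∨ DViol 2 x y (1 - x - y) t ∨
      DViol 2 y (1 - x - y) x t ∨
      DViol 2 (1 - x - y) x y t := by decide +kernel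

/-- No full column: the arithmetic. -/
theorem triple_false (h5 : 5 ≤ Fintype.card F) {x y z : F} (hx : x ≠ 0) (hy : y ≠ 0) (hz : z ≠ 0)
    (hs : x + y + z = 1) {s : Fˣ} (hord : orderOf s = Fintype.card F - 1) (h : Rule3 x y z)
    (hd : ∀ e : F, e = 2 - (s : F) ^ 3 - ((s⁻¹ : Fˣ) : F) ^ 3 →
      Derived F Rule3 e x y z ∧ Derived F Rule3 e y z x ∧ Derived F Rule3 e z x y) : False := by
  classical
  obtain ⟨e, he⟩ : ∃ e : F, e = 2 - (s : F) ^ 3 - ((s⁻¹ : Fˣ) : F) ^ 3 := ⟨_, rfl⟩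
  obtain ⟨d1, d2, d3⟩ := hd e he
  have hne : ∀ n, 0 < n → n < Fintype.card F - 1 → (s : F) ^ n ≠ 1 := fun n h0 h1 h' =>
    pow_ne_one_of_lt_orderOf h0.ne' (by rwa [hord]) (Units.ext (by simpa using h'))
  have hinv : (s : F) ^ 3 * ((s⁻¹ : Fˣ) : F) ^ 3 = 1 := by
    rw [← mul_pow, Units.mul_inv, one_pow]
  have hfull : (s : F) ^ (Fintype.card F - 1) = 1 :=
    FiniteField.pow_card_sub_one_eq_one _ s.ne_zero
  have model : ∀ (p : ℕ) [Fact p.Prime] (e₀ : ZMod p), Fintype.card F = p →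
      (∀ ψ : ZMod p →+* F, ψ e₀ = e) →
      (∀ a b : ZMod p, a ≠ 0 → b ≠ 0 → 1 - a - b ≠ 0 → ∃ t : ZMod p × ZMod p × ZMod p,
        Viol a b (1 - a - b) t ∨ DViol e₀ a b (1 - a - b) t ∨
        DViol e₀ b (1 - a - b) a t ∨
        DViol e₀ (1 - a - b) a b t) → False := by
    intro p _ e₀ hp he₀ htab
    have : CharP F p := charP_of_card_eq_prime hp
    let φ : ZMod p ≃+* F := ZMod.ringEquiv F hp
    set ψ : ZMod p →+* F := φ.toRingHom with hψ
    have hi : Function.Injective ψ := φ.injective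
    obtain ⟨a, rfl⟩ : ∃ a, ψ a = x := φ.surjective x
    obtain ⟨b, rfl⟩ : ∃ b, ψ b = y := φ.surjective y
    have hz' : z = ψ (1 - a - b) := by
      rw [map_sub, map_sub, map_one]; linear_combination hs
    subst hz'
    have he' := he₀ ψ
    subst he'
    simp only [Derived, ← map_mul, ← map_one ψ, ← map_sub, ← map_add] at d1 d2 d3
    obtain ⟨t, ht | ht | ht | ht⟩ := htab a b (fun h' => hx (by rw [h', map_zero]))
      (fun h' => hy (by rw [h', map_zero])) (fun h' => hz (by rw [h', map_zero]))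
    · exact not_rule3_of_viol ψ hi ht h
    · exact not_rule3_of_viol ψ hi ht d1
    · exact not_rule3_of_viol ψ hi ht d2
    · exact not_rule3_of_viol ψ hi ht d3
  by_cases h7 : Fintype.card F = 7
  · have : Fact (Nat.Prime 7) := ⟨by norm_num⟩
    have hμ : (s : F) ^ 3 = -1 :=
      (mul_self_eq_one_iff.mp (by rw [← pow_add]; simpa [h7] using hfull)).resolve_left
        (hne 3 (by norm_num) (by omega))
    refine model 7 4 h7 (fun ψ => ?_) fun a b ha hb hc => ?_
    · rw [map_ofNat, he]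
      linear_combination (1 + ((s⁻¹ : Fˣ) : F) ^ 3) * hμ - hinv
    · obtain ⟨t, -, ht⟩ := seven_table a b ha hb hc
      exact ⟨t, ht⟩
  by_cases h13 : Fintype.card F = 13
  · have : Fact (Nat.Prime 13) := ⟨by norm_num⟩
    have hμ : (s : F) ^ 3 * (s : F) ^ 3 = -1 :=
      (mul_self_eq_one_iff.mp (by rw [← pow_add, ← pow_add]; simpa [h13] using hfull)).resolve_left
        (by rw [← pow_add]; exact hne 6 (by norm_num) (by omega))
    refine model 13 2 h13 (fun ψ => ?_) fun a b ha hb hc => ?_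
    · rw [map_ofNat, he]
      linear_combination ((s⁻¹ : Fˣ) : F) ^ 3 * hμ - (s : F) ^ 3 * hinv
    · obtain ⟨t, -, ht⟩ := thirteen_table a b ha hb hc
      exact ⟨t, ht⟩
  obtain ⟨h16, rfl, rfl, rfl⟩ := rule3_large h5 h7 h13 hx hy hz hs h
  have h2 := two_eq_zero_of_sixteen h16
  have he0 : e ≠ 0 := fun h0 => hne 3 (by norm_num) (by omega)
    (sub_eq_zero.mp (mul_self_eq_zero.mp (show ((s : F) ^ 3 - 1) * ((s : F) ^ 3 - 1) = 0 by
      rw [he] at h0; linear_combination -(s : F) ^ 3 * h0 - hinv)))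
  simp only [Derived] at d1
  obtain ⟨-, -, hone, -⟩ := rule3_large h5 h7 h13 (c₀ := 1 - e * 1 + e * 1 * 1)
    (c₁ := e * 1 * 1) (c₂ := e * 1 * 1) (by simp) (by simpa using he0) (by simpa using he0)
    (by linear_combination e * h2) d1
  refine hne 9 (by norm_num) (by omega) ?_
  rw [he] at hone
  have hq : ((s : F) ^ 3) ^ 2 + (s : F) ^ 3 + 1 = 0 := by
    linear_combination (s : F) ^ 3 * hone + hinv + (((s : F) ^ 3) ^ 2 + 1) * h2
  linear_combination ((s : F) ^ 3 - 1) * hq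

end Triple

/-! ### The group -/

section Core

variable {ι : Type} [Fintype ι] [DecidableEq ι] {F : Type*} [Field F]

/-- No elementary transvection. -/
def NoEl (M : Subgroup (GL ι F)) : Prop := ∀ (i j : ι) (c : F), i ≠ j → c ≠ 0 → el i j c ∉ M

theorem univ3 (hι : Fintype.card ι = 3) {a b c : ι} (hab : a ≠ b) (hac : a ≠ c) (hbc : b ≠ c) :
    (Finset.univ : Finset ι) = {a, b, c} :=
  (Finset.eq_univ_of_card _ (by
    rw [hι, Finset.card_insert_of_notMem (by simp [hab, hac]), Finset.card_pair hbc])).symm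

theorem sum3 (hι : Fintype.card ι = 3) {a b c : ι} (hab : a ≠ b) (hac : a ≠ c) (hbc : b ≠ c)
    (f : ι → F) : ∑ x, f x = f a + f b + f c := by
  rw [univ3 hι hab hac hbc, Finset.sum_insert (by simp [hab, hac]), Finset.sum_pair hbc, add_assoc]

theorem third (hι : Fintype.card ι = 3) (a b : ι) : ∃ c, c ≠ a ∧ c ≠ b := by
  obtain ⟨c, -, hc⟩ := Finset.exists_mem_notMem_of_card_lt_card (s := ({a, b} : Finset ι))
    (t := Finset.univ) (Finset.card_le_two.trans_lt (by rw [Finset.card_univ]; omega))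
  simp only [Finset.mem_insert, Finset.mem_singleton, not_or] at hc
  exact ⟨c, hc⟩

/-- The determinant one diagonal with all but one entry equal to `s`. -/
def hom (a : ι) (s : Fˣ) : ι → Fˣ := Function.update (fun _ => s) a (s⁻¹ * s⁻¹)

theorem prod_hom (hι : Fintype.card ι = 3) (a : ι) (s : Fˣ) : ∏ i, hom a s i = 1 := by
  rw [hom, Finset.prod_update_of_mem (Finset.mem_univ a), Finset.prod_const,
    Finset.card_sdiff_of_subset (Finset.subset_univ _), Finset.card_univ, hι, Finset.card_singleton,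
    show 3 - 1 = 2 from rfl, pow_two, mul_mul_mul_comm]
  simp

theorem conj_dg_apply (g : GL ι F) (t : ι → Fˣ) (r c : ι) :
    ((g * dg t * g⁻¹ : GL ι F) : Matrix ι ι F) r c = ∑ b, g.1 r b * t b * (g⁻¹).1 b c := by
  rw [Units.val_mul, Units.val_mul, dg_coe, Matrix.mul_apply]
  simp only [mul_diagonal]

theorem conj_dg_inv (g : GL ι F) (t : ι → Fˣ) :
    (g * dg t * g⁻¹)⁻¹ = g * dg (fun i => (t i)⁻¹) * g⁻¹ := by
  rw [_root_.mul_inv_rev, _root_.mul_inv_rev, inv_inv, mul_assoc]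
  congr 2

theorem conj_hom_apply (g : GL ι F) (a : ι) (s : Fˣ) (r c : ι) :
    ((g * dg (hom a s) * g⁻¹ : GL ι F) : Matrix ι ι F) r c = (s : F) * (1 : Matrix ι ι F) r c +
      (((s⁻¹ : Fˣ) : F) * ((s⁻¹ : Fˣ) : F) - s) * (g.1 r a * (g⁻¹).1 a c) := by
  have h1 : ∀ b, g.1 r b * hom a s b * (g⁻¹).1 b c = (s : F) * (g.1 r b * (g⁻¹).1 b c) +
      if b = a then (((s⁻¹ : Fˣ) : F) * ((s⁻¹ : Fˣ) : F) - s) * (g.1 r a * (g⁻¹).1 a c) else 0 := by
    intro b
    by_cases hb : b = a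
    · subst hb; simp [hom]; ring
    · simp [hom, hb]; ring
  rw [conj_dg_apply, Finset.sum_congr rfl fun b _ => h1 b, Finset.sum_add_distrib, ← Finset.mul_sum,
    ← Matrix.mul_apply, Units.mul_inv]
  simp

variable {M : Subgroup (GL ι F)}
variable (hM : HasMon M) (hι : Fintype.card ι = 3) (hno : NoEl M) {s : Fˣ} (hs : s ^ 3 ≠ 1)
include hM hι hno hs

omit hM hι hno in
theorem shift_ne : ((s⁻¹ : Fˣ) : F) * ((s⁻¹ : Fˣ) : F) - s ≠ 0 := fun h => hs (by
  have h' : s⁻¹ * s⁻¹ = s := Units.ext (by simpa using sub_eq_zero.mp h)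
  calc s ^ 3 = s * s * (s⁻¹ * s⁻¹) := by rw [h', pow_succ, pow_two]
    _ = 1 := by group)

/-- A transvection with a coordinate axis gives an elementary one. -/
theorem false_of_tv {p : ι → F} {l : ι} {C : F} (hp : p ≠ 0) (hl : p l = 0) (hC : C ≠ 0)
    (h : tv p (Pi.single l C) ∈ M) : False := by
  obtain ⟨j, hj⟩ := Function.ne_iff.mp hp
  have hjl : j ≠ l := fun e => hj (e ▸ hl)
  set d := ((s⁻¹ : Fˣ) : F) * ((s⁻¹ : Fˣ) : F) - s with hd
  set φ : ι → F := Pi.single l (C * ((s⁻¹ : Fˣ) : F)) with hφ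
  have hw := hM.dg_mem (prod_hom hι j s)
  have hconj := mul_mem (mul_mem hw h) (inv_mem hw)
  rw [tv_conj _ (by rw [single_dotProduct, hl, mul_zero]), dg_mulVec, vecMul_dg_inv] at hconj
  have e1 : (fun i => (Pi.single l C : ι → F) i * (((hom j s i)⁻¹ : Fˣ) : F)) = φ := by
    funext i
    by_cases hi : i = l
    · subst hi; simp [hφ, hom, hjl.symm]
    · simp [hφ, hi]
  have e2 : (fun i => (hom j s i : F) * p i) = (d * p j) • Pi.single j 1 + (s : F) • p := by
    funext i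
    by_cases hi : i = j
    · subst hi; simp [hom, hd]; ring
    · simp [hom, hi]
  rw [e1, e2] at hconj
  have o1 : φ ⬝ᵥ p = 0 := by rw [hφ, single_dotProduct, hl, mul_zero]
  have o2 : φ ⬝ᵥ (Pi.single j 1 : ι → F) = 0 := by simp [hφ, hjl]
  rw [← tv_mul_left (by rw [dotProduct_smul, o2, smul_zero]) (by rw [dotProduct_smul, o1, smul_zero]),
    tv_smul_comm _ o1, tv_smul_comm _ o2,
    show (s : F) • φ = Pi.single l C by
      rw [hφ, ← Pi.single_smul', smul_eq_mul, mul_left_comm, Units.mul_inv, mul_one]] at hconj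
  have hel := (Subgroup.mul_mem_cancel_right M h).mp hconj
  rw [hφ, ← Pi.single_smul'] at hel
  exact hno j l _ hjl (by
    rw [smul_eq_mul]
    exact mul_ne_zero (mul_ne_zero (shift_ne hs) hj) (mul_ne_zero hC (Units.ne_zero _))) hel

/-- The zeros of a member and of its inverse correspond. -/
theorem inv_zero {g : GL ι F} (hg : g ∈ M) {a l : ι} (h : g.1 l a = 0) : (g⁻¹).1 a l = 0 := by
  by_contra hφ
  set p : ι → F := fun r => g.1 r a with hp
  set φ := (g⁻¹).1 a l with hφd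
  set d := ((s⁻¹ : Fˣ) : F) * ((s⁻¹ : Fˣ) : F) - s with hd
  set x := g * dg (hom a s) * g⁻¹ with hx
  set y := dg (hom l s) with hy
  set C := d * d * φ * s with hC
  have hxM : x ∈ M := mul_mem (mul_mem hg (hM.dg_mem (prod_hom hι a s))) (inv_mem hg)
  have hyM : y ∈ M := hM.dg_mem (prod_hom hι l s)
  have horth : Pi.single l C ⬝ᵥ p = 0 := by rw [single_dotProduct, hp]; simp [h]
  have key : tv p (Pi.single l C) * (y * x) = x * y := by
    refine Units.ext (Matrix.ext fun r c => ?_)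
    have eL : ∀ X : GL ι F, ((tv p (Pi.single l C) * (y * X)) : GL ι F).1 r c =
        (hom l s r : F) * X.1 r c + p r * C * ((hom l s l : F) * X.1 l c) := fun X => by
      rw [Units.val_mul, Units.val_mul, tv_coe horth, add_mul, one_mul, Matrix.add_apply, hy, dg_coe,
        diagonal_mul]
      simp [Matrix.mul_apply, vecMulVec, Pi.single_apply, diagonal_apply]
    have eR : ∀ X : GL ι F, (X * y : GL ι F).1 r c = X.1 r c * (hom l s c : F) := fun X => by
      rw [Units.val_mul, hy, dg_coe, mul_diagonal]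
    rw [eL, eR]
    rw [hx, conj_hom_apply, conj_hom_apply, hC, hd]
    have hsi : ((s⁻¹ : Fˣ) : F) * s = 1 := Units.inv_mul s
    by_cases hr : r = l <;> by_cases hc : c = l
    · subst hr hc; simp [hom, hp, h]
    · subst hr; simp [hom, hc, hp, h, Matrix.one_apply_ne (Ne.symm hc)]
    · subst hc
      simp [hom, hr, hp, h, hφd, Matrix.one_apply_ne hr, -Units.val_inv_eq_inv_val,
        -Matrix.coe_units_inv]
      linear_combination (((s⁻¹ : Fˣ) : F) * ((s⁻¹ : Fˣ) : F) - s) *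
        (((s⁻¹ : Fˣ) : F) * ((s⁻¹ : Fˣ) : F) - s) * g.1 r a * (g⁻¹).1 a c * hsi
    · simp [hom, hr, hc, hp, h, Matrix.one_apply_ne (Ne.symm hc)]; ring
  refine false_of_tv hM hι hno hs (p := p) (l := l) (C := C) (fun h0 => ?_) h ?_ ?_
  · obtain ⟨r, hr⟩ := col_ne_zero g a
    exact hr (congrFun h0 r)
  · exact mul_ne_zero (mul_ne_zero (mul_ne_zero (shift_ne hs) (shift_ne hs)) hφ) s.ne_zero
  · rw [eq_mul_inv_of_mul_eq key]
    exact mul_mem (mul_mem hxM hyM) (inv_mem (mul_mem hyM hxM))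

theorem inv_ne {g : GL ι F} (hg : g ∈ M) {a l : ι} (h : g.1 l a ≠ 0) : (g⁻¹).1 a l ≠ 0 :=
  fun h' => h (by simpa using inv_zero hM hι hno hs (inv_mem hg) h')

theorem rule_row {g : GL ι F} (hg : g ∈ M) (i : ι) {a b c : ι} (hab : a ≠ b) (hac : a ≠ c)
    (hbc : b ≠ c) :
    Rule3 (g.1 i a * (g⁻¹).1 a i) (g.1 i b * (g⁻¹).1 b i) (g.1 i c * (g⁻¹).1 c i) := by
  intro A B C hp hl
  have hA : A ≠ 0 := fun h => by simp [h] at hp
  have hB : B ≠ 0 := fun h => by simp [h] at hp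
  have hC : C ≠ 0 := fun h => by simp [h] at hp
  set t : ι → Fˣ := fun x => if x = a then Units.mk0 A hA else if x = b then Units.mk0 B hB
    else Units.mk0 C hC with ht
  have ta : (t a : F) = A := by simp [ht]
  have tb : (t b : F) = B := by simp [ht, hab.symm]
  have tc : (t c : F) = C := by simp [ht, hac.symm, hbc.symm]
  have hprod : ∏ x, t x = 1 := Units.ext (by
    rw [univ3 hι hab hac hbc, Finset.prod_insert (by simp [hab, hac]), Finset.prod_pair hbc,
      Units.val_mul, Units.val_mul, ta, tb, tc, ← mul_assoc, hp, Units.val_one])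
  have hy : g * dg t * g⁻¹ ∈ M := mul_mem (mul_mem hg (hM.dg_mem hprod)) (inv_mem hg)
  have h0 := inv_zero hM hι hno hs hy (a := i) (l := i) (by
    rw [conj_dg_apply, sum3 hι hab hac hbc, ta, tb, tc]; linear_combination hl)
  rw [conj_dg_inv, conj_dg_apply, sum3 hι hab hac hbc] at h0
  simp only [Units.val_inv_eq_inv_val, ta, tb, tc] at h0
  rw [show A⁻¹ = B * C from inv_eq_of_mul_eq_one_right (by linear_combination hp),
    show B⁻¹ = A * C from inv_eq_of_mul_eq_one_right (by linear_combination hp),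
    show C⁻¹ = A * B from inv_eq_of_mul_eq_one_right (by linear_combination hp)] at h0
  linear_combination h0

/-- No column is full. -/
theorem false_of_full [Fintype F] (h5 : 5 ≤ Fintype.card F) (hord : orderOf s = Fintype.card F - 1)
    {g : GL ι F} (hg : g ∈ M) {i a b c : ι} (hab : a ≠ b) (hac : a ≠ c) (hbc : b ≠ c)
    (ha : g.1 i a ≠ 0) (hb : g.1 i b ≠ 0) (hc : g.1 i c ≠ 0) : False := by
  set u : ι → F := fun r => g.1 i r * (g⁻¹).1 r i with hu
  have hn : ∀ {r}, g.1 i r ≠ 0 → u r ≠ 0 := fun h => mul_ne_zero h (inv_ne hM hι hno hs hg h)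
  have hsum : u a + u b + u c = 1 := by
    rw [← sum3 hι hab hac hbc u, hu, ← Matrix.mul_apply, Units.mul_inv, one_apply_eq]
  refine triple_false h5 (hn ha) (hn hb) (hn hc) hsum hord
    (rule_row hM hι hno hs hg i hab hac hbc) fun e he => ?_
  set x := g⁻¹ * dg (hom i s) * (g⁻¹)⁻¹ with hx
  have hxM : x ∈ M := mul_mem (mul_mem (inv_mem hg) (hM.dg_mem (prod_hom hι i s))) (inv_mem (inv_mem hg))
  have hxi : x⁻¹ = g⁻¹ * dg (hom i s⁻¹) * (g⁻¹)⁻¹ := by
    rw [hx, conj_dg_inv]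
    congr
    funext r
    by_cases hr : r = i
    · subst hr; simp [hom]
    · simp [hom, hr]
  have hsi : ((s⁻¹ : Fˣ) : F) * s = 1 := Units.inv_mul s
  have hee : (((s⁻¹ : Fˣ) : F) * ((s⁻¹ : Fˣ) : F) - s) * ((s : F) * s - ((s⁻¹ : Fˣ) : F)) = e := by
    rw [he]; linear_combination (((s⁻¹ : Fˣ) : F) * s + 2) * hsi
  have hdiag : ∀ r, x.1 r r * (x⁻¹).1 r r = 1 - e * u r + e * u r * u r := fun r => by
    rw [hxi, hx, conj_hom_apply, conj_hom_apply]
    simp only [inv_inv, one_apply_eq, mul_one, hu]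
    linear_combination hsi + (g.1 i r * (g⁻¹).1 r i) * (g.1 i r * (g⁻¹).1 r i) * hee
      + (g.1 i r * (g⁻¹).1 r i) * (he - 2 * hsi)
  have hoff : ∀ r m, r ≠ m → x.1 r m * (x⁻¹).1 m r = e * u r * u m := fun r m hrm => by
    rw [hxi, hx, conj_hom_apply, conj_hom_apply]
    simp only [inv_inv, one_apply_ne hrm, one_apply_ne (Ne.symm hrm), mul_zero, zero_add, hu]
    linear_combination (g.1 i r * (g⁻¹).1 r i) * (g.1 i m * (g⁻¹).1 m i) * hee
  have R := fun r {m n : ι} (hrm : r ≠ m) (hrn : r ≠ n) (hmn : m ≠ n) =>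
    rule_row hM hι hno hs hxM r hrm hrn hmn
  refine ⟨?_, ?_, ?_⟩ <;> simp only [Derived]
  · have h := R a hab hac hbc; rwa [hdiag, hoff _ _ hab, hoff _ _ hac] at h
  · have h := R b hbc hab.symm hac.symm; rwa [hdiag, hoff _ _ hbc, hoff _ _ hab.symm] at h
  · have h := R c hac.symm hbc.symm hab; rwa [hdiag, hoff _ _ hac.symm, hoff _ _ hbc.symm] at h

/-- Every member is monomial. -/
theorem mon_of_noEl [Fintype F] (h5 : 5 ≤ Fintype.card F) (hord : orderOf s = Fintype.card F - 1)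
    {g : GL ι F} (hg : g ∈ M) : Mon g := by
  classical
  suffices key : ∀ g : GL ι F, g ∈ M → ∀ i a b, a ≠ b → g.1 i a ≠ 0 → g.1 i b ≠ 0 → False by
    by_contra hgn
    obtain ⟨a, i, i', hii, hi, hi'⟩ := exists_two_of_not_mon hgn
    exact key g⁻¹ (inv_mem hg) a i i' hii (inv_ne hM hι hno hs hg hi) (inv_ne hM hι hno hs hg hi')
  intro g hg i a b hab ha hb
  obtain ⟨c, hca, hcb⟩ := third hι a b
  have full := fun (h : GL ι F) (hh : h ∈ M) => false_of_full hM hι hno hs h5 hord hh (i := i)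
    hab hca.symm hcb.symm
  by_cases hc : g.1 i c = 0
  swap
  · exact full g hg ha hb hc
  obtain ⟨j, hj⟩ := col_ne_zero g c
  have hji : j ≠ i := fun e => hj (e ▸ hc)
  obtain ⟨t, -, ht⟩ := Finset.exists_mem_notMem_of_card_lt_card
    (s := ({0, -(g.1 i b * g.1 j a) / (g.1 i a * g.1 i a),
      -(g.1 i b * g.1 j b) / (g.1 i a * g.1 i b)} : Finset F)) (t := Finset.univ)
    (Finset.card_le_three.trans_lt (by rw [Finset.card_univ]; omega))
  simp only [Finset.mem_insert, Finset.mem_singleton, not_or] at ht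
  set σ : Equiv.Perm ι := Equiv.swap (Equiv.swap i a j) b * Equiv.swap i a with hσ
  have hne : a ≠ Equiv.swap i a j := fun e => hji ((Equiv.swap i a).injective (by
    rw [Equiv.swap_apply_left]; exact e.symm))
  have hσi : σ i = a := by
    rw [hσ, Equiv.Perm.mul_apply, Equiv.swap_apply_left, Equiv.swap_apply_of_ne_of_ne hne hab]
  have hσj : σ j = b := by rw [hσ, Equiv.Perm.mul_apply, Equiv.swap_apply_left]
  set τ : ι → Fˣ := Function.update (Function.update 1 a (Units.mk0 t ht.1)) c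
    ((Units.mk0 t ht.1) * Matrix.GeneralLinearGroup.det (pm σ : GL ι F))⁻¹ with hτ
  have hP : dg τ * pm σ ∈ M := hM _ ⟨_, (mon_dg τ).mul (mon_pm σ)⟩ (by
    rw [map_mul, det_dg, univ3 hι hab hca.symm hcb.symm,
      Finset.prod_insert (by simp [hab, hca.symm]), Finset.prod_pair hcb.symm, hτ,
      Function.update_self, Function.update_of_ne hca.symm, Function.update_self,
      Function.update_of_ne hcb.symm, Function.update_of_ne hab.symm, Pi.one_apply, one_mul]
    simp [mul_comm, mul_left_comm])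
  set h := g * (dg τ * pm σ) * g with hh
  have hPg : ∀ r m, ((dg τ * pm σ) * g : GL ι F).1 r m = (τ r : F) * g.1 (σ.symm r) m := fun r m => by
    rw [mul_assoc, Units.val_mul, dg_coe, diagonal_mul, Units.val_mul, Matrix.mul_apply,
      Finset.sum_eq_single (σ.symm r) (fun x _ hx => by
        rw [pm_apply, if_neg (fun e => hx (by rw [e, Equiv.symm_apply_apply])), zero_mul]) (by simp)]
    rw [pm_apply, Equiv.apply_symm_apply, if_pos rfl, one_mul]
  have hentry : ∀ m, h.1 i m = g.1 i a * t * g.1 i m + g.1 i b * g.1 j m := fun m => by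
    rw [hh, mul_assoc, Units.val_mul, Matrix.mul_apply, sum3 hι hab hca.symm hcb.symm, hPg, hPg,
      hPg, hc, ← hσi, ← hσj, Equiv.symm_apply_apply, Equiv.symm_apply_apply, hσi, hσj]
    simp [hτ, hca.symm, hcb.symm, hab.symm]
    ring
  refine full h (mul_mem (mul_mem hg hP) hg) ?_ ?_ ?_
  · rw [hentry]
    exact fun e => ht.2.1 (by rw [eq_div_iff (mul_ne_zero ha ha)]; linear_combination e)
  · rw [hentry]
    exact fun e => ht.2.2 (by rw [eq_div_iff (mul_ne_zero ha hb)]; linear_combination e)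
  · rw [hentry, hc, mul_zero, zero_add]
    exact mul_ne_zero hb hj

end Core

/-- Clause (2) of the geometric maximal subgroups of `SL₃(q)`: three independent lines, `q ≥ 5`. -/
theorem lines_maximal {F : Type*} [Field F] [Fintype F] :
    5 ≤ Fintype.card F → ∀ D : Fin 3 → Submodule F (Fin 3 → F), Cfsg.Geo.IsMDecomposition 1 D →
      Cfsg.Geo.IsMaximalIn (Cfsg.Geo.specialLinear (Fin 3) F)
        (Cfsg.Geo.decompositionStabilizer D ⊓ Cfsg.Geo.specialLinear (Fin 3) F) := by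
  classical
  intro hq5 D hD
  obtain ⟨Φ, hΦ⟩ := Cfsg.Agent.S5635.exists_coords hD
  set Ψ := Φ.trans pairCoords with hΨdef
  have hΨ : ∀ i x, x ∈ D i ↔ ∀ y : Fin 1 × Fin 3, y.2 ≠ i → Ψ x y = 0 := fun i x =>
    (hΦ i x).trans ⟨fun h y hy => congrFun (h y.2 hy) y.1, fun h j hj => funext fun a => h (a, j) hj⟩
  set e := chart Ψ with he
  have hmem := map_mem_iff Ψ hD hΨ
  refine isMaximalIn_of inf_le_right ?_ ?_
  · set y₀ : Fin 1 × Fin 3 := (0, 0)
    set y₁ : Fin 1 × Fin 3 := (0, 1)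
    have hne : y₀ ≠ y₁ := by simp [y₀, y₁]
    refine ⟨e.symm (el y₀ y₁ 1), ?_, fun h => ?_⟩
    · show Matrix.GeneralLinearGroup.det _ = 1
      rw [← det_chart Ψ, ← he, MulEquiv.apply_symm_apply]
      exact det_tv _ _
    · obtain ⟨σ, hσ⟩ := (hmem _).mp h.1
      rw [← he, MulEquiv.apply_symm_apply, el_coe hne] at hσ
      have e1 : y₀.2 = σ y₁.2 := by
        by_contra hh
        have := hσ y₀ y₁ hh
        simp [transvection, hne] at this
      have e2 : y₁.2 = σ y₁.2 := by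
        by_contra hh
        have := hσ y₁ y₁ hh
        simp [transvection, hne] at this
      exact hne (by simpa [y₀, y₁] using e1.trans e2.symm)
  · intro M hHM hMK g hg hgH
    set M' := M.map e.toMonoidHom with hM'
    have hmon : HasMon M' := fun k hk hdet => by
      obtain ⟨σ, hσ⟩ := hk
      refine ⟨e.symm k, hHM ⟨(hmem _).mpr ?_, ?_⟩, e.apply_symm_apply k⟩
      · rw [← he, MulEquiv.apply_symm_apply]
        exact ⟨fun l => (σ (0, l)).2, fun x y hxy => hσ x y fun e => hxy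
          (by rw [e, show y = (0, y.2) from Prod.ext (Subsingleton.elim _ _) rfl])⟩
      show Matrix.GeneralLinearGroup.det _ = 1
      rw [← det_chart Ψ, ← he, MulEquiv.apply_symm_apply, hdet]
    have hι : Fintype.card (Fin 1 × Fin 3) = 3 := by simp
    have hle : Geo.specialLinear (Fin 1 × Fin 3) F ≤ M' := by
      by_cases hno : NoEl M'
      · exfalso
        obtain ⟨s, hs⟩ := IsCyclic.exists_generator (α := Fˣ)
        have ho : orderOf s = Fintype.card F - 1 := by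
          rw [orderOf_eq_card_of_forall_mem_zpowers hs, Nat.card_eq_fintype_card, Fintype.card_units]
        have h3 : s ^ 3 ≠ 1 := fun h => by
          have := Nat.le_of_dvd (by norm_num) (orderOf_dvd_of_pow_eq_one h)
          omega
        refine hgH ⟨(hmem g).mpr ?_, hMK hg⟩
        obtain ⟨σ, hσ⟩ := mon_of_noEl hmon hι hno h3 hq5 ho (g := e g) ⟨g, hg, rfl⟩
        exact ⟨fun l => (σ (0, l)).2, fun x y hxy => hσ x y fun e => hxy
          (by rw [e, show y = (0, y.2) from Prod.ext (Subsingleton.elim _ _) rfl])⟩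
      · unfold NoEl at hno
        push Not at hno
        obtain ⟨i, j, c, hij, hc, hm⟩ := hno
        exact Frame.specialLinear_le_of_el_mem (hmon.el_all (by omega) hij hc hm)
    intro k hk
    obtain ⟨k', hk', hkk⟩ := hle (show e k ∈ Geo.specialLinear (Fin 1 × Fin 3) F from by
      show Matrix.GeneralLinearGroup.det (chart Ψ k) = 1
      rw [det_chart]; exact hk)
    exact e.injective hkk ▸ hk'

end Cfsg.Agent.SL3Geo99
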